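import Groth.Agent.InfLiftLib.Torsor
import Groth.Agent.TildeFinLib.Basic
import Groth.Agent.HomLib.Basic

/-!
# The sheaf of homomorphisms between two tilde modules
-/

set_option autoImplicit false
set_option backward.isDefEq.respectTransparency false
set_option backward.isDefEq.respectTransparency.types false
set_option linter.style.haveILetI false
set_option maxHeartbeats 1000000

universe u

open CategoryTheory AlgebraicGeometry

noncomputable section

namespace Groth.Agent.HomTildeLib

theorem nonempty_iso {R : CommRingCat.{u}} (M N : ModuleCat.{u} R) [Module.FinitePresentation R M]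
    [DCoh.HasSheafHom (tilde M)] :
    Nonempty ((DCoh.sheafHom (tilde M)).obj (tilde N) ≅ tilde (ModuleCat.of R (M →ₗ[R] N))) := by
  haveI : Coh.IsQCoh (tilde M) := (inferInstance : (tilde M).IsQuasicoherent)
  haveI : Coh.IsQCoh (tilde N) := (inferInstance : (tilde N).IsQuasicoherent)
  have hfp : CohB1.IsFP (tilde M) := (TildeFinLib.isFP_tilde_iff M).2 ‹_›
  obtain ⟨e₁⟩ := InfLiftLib.nonempty_homSh_iso (tilde M) (tilde N)
  let H : (Spec R).Modules := RefHull.homSh (tilde M) (tilde N)
  haveI : H.IsQuasicoherent := HomLib.isQCoh_homSh_of_isFP (M := tilde M) (N := tilde N) hfp ‹_›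
  let E := HomLib.homEquiv (isAffineOpen_top (Spec R)) (tilde M) (tilde N)
  let a : M ≃ₗ[R] Γ(tilde M, ⊤) := (tilde.isoTop M).toLinearEquiv
  let b : N ≃ₗ[R] Γ(tilde N, ⊤) := (tilde.isoTop N).toLinearEquiv
  let σ : R ≃+* Γ(Spec R, ⊤) := (Scheme.ΓSpecIso R).commRingCatIsoToRingEquiv.symm
  have hσ : ∀ (F : (Spec R).Modules) (r : R) (x : Γ(F, ⊤)), r • x = σ r • x := fun F r x => by
    rw [Scheme.Modules.smul_Spec_def]
    simp only [σ]
    congr 1
  let toR : Γ(H, ⊤) →ₗ[R] (M →ₗ[R] N) :=
    { toFun := fun f =>
        { toFun := fun x => b.symm (E f (a x))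
          map_add' := fun x y => by rw [map_add, map_add, map_add]
          map_smul' := fun r x => by
            rw [map_smul, hσ _ r (a x), map_smul, ← hσ, map_smul, RingHom.id_apply] }
      map_add' := fun f f' => LinearMap.ext fun x => by
        show b.symm (E (f + f') (a x)) = b.symm (E f (a x)) + b.symm (E f' (a x))
        rw [map_add, LinearMap.add_apply, map_add]
      map_smul' := fun r f => LinearMap.ext fun x => by
        show b.symm (E (r • f) (a x)) = r • b.symm (E f (a x))
        rw [hσ H, map_smul, LinearMap.smul_apply, ← hσ (tilde N), map_smul] }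
  have hbij : Function.Bijective toR := by
    refine ⟨fun f f' h => E.injective (LinearMap.ext fun x => b.symm.injective ?_), fun φ => ?_⟩
    · obtain ⟨x, rfl⟩ := a.surjective x
      exact LinearMap.congr_fun h x
    · let g : Γ(tilde M, ⊤) →ₗ[Γ(Spec R, ⊤)] Γ(tilde N, ⊤) :=
        { toFun := fun x => b (φ (a.symm x))
          map_add' := fun x y => by simp
          map_smul' := fun r x => by
            obtain ⟨r, rfl⟩ := σ.surjective r
            rw [RingHom.id_apply, ← hσ, ← hσ, map_smul, map_smul, map_smul] }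
      refine ⟨E.symm g, LinearMap.ext fun x => ?_⟩
      show b.symm (E (E.symm g) (a x)) = φ x
      rw [E.apply_symm_apply]
      simp [g]
  let T : (moduleSpecΓFunctor (R := R)).obj H ≅ ModuleCat.of R (M →ₗ[R] N) :=
    (LinearEquiv.ofBijective toR hbij).toModuleIso
  haveI : IsIso H.fromTildeΓ := inferInstance
  exact ⟨e₁ ≪≫ ((asIso H.fromTildeΓ).symm : H ≅ _) ≪≫ (tilde.functor R).mapIso T⟩

end Groth.Agent.HomTildeLib
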